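import Groth.Prelude.Def_ClSub2
import Groth.Prelude.Def_Twist2
import Groth.Agent.Lib.SurfRR28.Basic
import Groth.Agent.Lib.NumTriv12.Main
import Groth.Agent.Lib.NumReg26.Proper
import Groth.Agent.Lib.QCoh.SupportPullback
import Groth.Agent.Lib.GGDesc10.Main
import Groth.Agent.Lib.CMReg.StructureMain
import Groth.Agent.Lib.CurveRR.Setup
import Groth.Agent.Lib.SerrePn27.ExtHH
import Groth.Agent.Lib.NumRestr12.Main
import Groth.Agent.Lib.CotTangent.Global

/-!
# No first cohomology in the anticanonical twists of a strong del Pezzo surface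
-/

universe u

set_option autoImplicit false
set_option linter.all false
set_option backward.isDefEq.respectTransparency false
set_option maxHeartbeats 2000000
set_option synthInstance.maxHeartbeats 100000

open CategoryTheory CategoryTheory.Limits AlgebraicGeometry TopologicalSpace

noncomputable section

namespace GrothLib.DelPezzoH112

open GrothLib.Cube (Pic clsMod pull HasCls hasCls_clsMod)
open GrothLib.HodgeIndex (rep isInv_rep cls_rep)
open GrothLib.Snapper (IsTop DimLT tw)
open GrothLib.FGAInt26 (del ev del_cons)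

/-- A map out of a globally generated module killing all sections is zero. -/
theorem hom_eq_zero_of_gg {X : Scheme.{u}} {N P : X.Modules} (hN : Curv2.IsGloballyGenerated N) (g : N ⟶ P)
    (h : ∀ σ : Coh.structureModule X ⟶ N, σ ≫ g = 0) : g = 0 := by
  obtain ⟨ι, p, hp⟩ := hN
  haveI := hp
  refine (cancel_epi p).1 (Eq.trans ?_ comp_zero.symm)
  refine Sigma.hom_ext (f := fun _ : ι => Coh.structureModule X) _ _ fun i => ?_
  exact ((Category.assoc _ _ _).symm.trans (h _)).trans comp_zero.symm

theorem tw_one_gg (N : ℕ) (k : Type u) [Field k] : Curv2.IsGloballyGenerated (Twist.twistProjSpace N k 1) := by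
  have h := CMReg.spanned_of_regular (F := Coh.structureModule (CohB1.ProjSpace N k)) (CMReg.isCoh_structure (X := CohB1.ProjSpace N k)) 0
    (fun i hi _ => by rw [zero_sub]; exact CMReg.structure_regular N i hi) 1 zero_le_one
  exact Ample.isGloballyGenerated_of_local _ (h.of_iso (CMReg.nonempty_Ft_structure 1).some)

variable {X : Scheme.{u}}

/-- Tensoring on the right. -/
abbrev tT (T : X.Modules) : X.Modules ⥤ X.Modules := (DCoh.tensorBi (X := X)).flip.obj T

theorem tT_injective {T : X.Modules} (hT : PicF.IsInvertible T) {A B : X.Modules} (f : A ⟶ B)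
    (h : (tT T).map f = 0) : f = 0 := by
  haveI : (tT T).IsEquivalence := FundIso27.isEquivalence_tensor hT
  exact (tT T).map_injective (h.trans ((tT T).map_zero _ _).symm)

theorem move {A F : X.Modules} {a v : Pic X} (hA : HasCls A a) (hv : a = v) :
    Nonempty (CohB1.tensorMod F A ≅ CohB1.tensorMod F (rep v)) := by
  obtain ⟨e⟩ := hA.iso ⟨isInv_rep v, cls_rep v⟩ hv
  exact ⟨Ample.LineData.tensorModMapIso (Iso.refl F) e⟩

/-- Dividing by a globally generated class keeps the absence of sections. -/
theorem up {Q D : X.Modules} {d z w : Pic X} (hD : HasCls D d) (hw : z * d = w)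
    (h : ∀ f : D ⟶ CohB1.tensorMod Q (rep w), f = 0) :
    ∀ g : Coh.structureModule X ⟶ CohB1.tensorMod Q (rep z), g = 0 := by
  intro g
  obtain ⟨e⟩ := move (F := Q) (HasCls.tensor (⟨isInv_rep z, cls_rep z⟩ : HasCls (rep z) z) hD) hw
  have h1 := h ((OX.tensorUnitLeftIso D).inv ≫ (tT D).map g ≫ (OX.tensorAssoc Q (rep z) D ≪≫ e).hom)
  refine tT_injective hD.1 g ?_
  rw [Iso.inv_comp_eq, comp_zero] at h1
  exact (cancel_mono (OX.tensorAssoc Q (rep z) D ≪≫ e).hom).1 (h1.trans zero_comp.symm)

variable (k : Type u) [Field k] [X.Over (Spec (CommRingCat.of k))] [IsProper (X ↘ Spec (CommRingCat.of k))]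
  [IsIntegral X]

include k in
/-- A surjection from an ample module onto a curve's structure sheaf is absurd. -/
theorem not_epi (hdim : topologicalKrullDim X = ((2 : ℕ) : WithBot ℕ∞)) {D W : X.Modules} (hDa : CohB1.IsAmple D)
    {d : Pic X} (hD : HasCls D d) (hW : HasCls W d⁻¹) (s : W ⟶ Coh.structureModule X) (hs : s ≠ 0)
    (g : D ⟶ cokernel s) [Epi g] : False := by
  haveI := Euler.isNoetherian_of_proper (X := X) k
  have hOi : PicF.IsInvertible (Coh.structureModule X) := Euler.isInvertible_structure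
  haveI := Euler.mono_of_ne_zero hW.1 hOi hs
  have hWc := Euler.isCoh_of_isInvertible hW.1
  have hOc := Euler.isCoh_of_isInvertible hOi
  let Q := cokernel s
  have hQ : Coh.IsCoh Q := QCoh.isCoh_cokernel s hWc hOc
  let S : ShortComplex X.Modules := ShortComplex.mk s (cokernel.π s) (cokernel.condition s)
  have hS : S.ShortExact := by
    haveI : Mono S.f := ‹Mono s›
    exact { exact := ShortComplex.exact_of_g_is_cokernel _ (cokernelIsCokernel s) }
  have hcl := QCoh.isClosed_support_of_isCoh hQ
  have hη : genericPoint X ∉ CohB1.support Q := QCoh.notMem_support_cokernel_of_surjective s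
    (Euler.stalkLin_genericPoint_bijective hW.1 hOi hs).2
  have hu : DimLT (closure ({genericPoint X} : Set X)) (2 + 1) := by
    rw [(genericPoint_spec X).def]
    exact Kleiman.dimLT_univ hdim.le
  have h2 : DimLT (CohB1.support Q) 2 :=
    Snapper.dimLT_of_notMem hu (by rw [(genericPoint_spec X).def]; exact fun _ _ => trivial) hη
  have h1 : ¬ DimLT (CohB1.support Q) 1 := fun h1 => by
    have hev : ev k Q d = ev k Q 1 := NumRestr12.ev_eq_on k (T := CohB1.support Q) (fun Y i _ hY hY1 hi => by
      have : topologicalKrullDim (Set.range i) ≤ ((0 : ℕ) : WithBot ℕ∞) :=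
        Snapper.dim_le_of_dimLT i.isClosedEmbedding.isClosed_range (h1.mono hi)
      rw [← i.isClosedEmbedding.isEmbedding.toHomeomorph.isHomeomorph.topologicalKrullDim_eq, hY1] at this
      exact absurd (show (1 : ℕ) ≤ 0 by exact_mod_cast this) (by omega)) hcl hQ subset_rfl
    have hevQ : ∀ w, ev k Q w = ev k (Coh.structureModule X) w - ev k (Coh.structureModule X) (d⁻¹ * w) := fun w => by
      have h : ev k (Coh.structureModule X) w = ev k W w + ev k Q w := FGAInt26.ev_additive k hS hWc hOc hQ w
      have hw : HasCls (rep w) w := ⟨isInv_rep w, cls_rep w⟩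
      have e : ev k W w = ev k (Coh.structureModule X) (d⁻¹ * w) := by
        rw [← FGAInt26.euler_tensor_eq' k hw, NumTriv12.evO k (hW.tensor hw)]
      omega
    have hpos := NumTriv12.pos_const k hdim hDa
    rw [show clsMod hDa.1 = d from hD.2, ← NumTriv12.cons_const d 1] at hpos
    have hOd : DimLT (CohB1.support (Coh.structureModule X)) (1 + 2) :=
      HodgeIndex.support_structure_dimLT k hdim.le
    have hn := NumTriv12.del_inv_cons k hOc hOd d (fun _ : Fin 1 => d)
    have : del (ev k (Coh.structureModule X)) (Fin.cons d⁻¹ (fun _ : Fin 1 => d) : Fin 2 → Pic X) = 0 := by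
      have e : del (ev k (Coh.structureModule X)) (Fin.cons d⁻¹ (fun _ : Fin 1 => d) : Fin 2 → Pic X) =
          del (ev k Q) (fun _ : Fin 1 => d) := by
        rw [funext hevQ, FGAInt26.del_sub, del_cons]
      rw [e, show (fun _ : Fin 1 => d) = Fin.cons d (fun j : Fin 0 => j.elim0) from by funext j; fin_cases j; rfl,
        del_cons]
      simp [del, hev]
    rw [hn, neg_eq_zero] at this
    rw [this] at hpos
    simp at hpos
  simp only [DimLT, not_forall, not_lt] at h1
  obtain ⟨l, hl, hl1⟩ := h1
  have hsub : closure ({l.last} : Set X) ⊆ CohB1.support Q :=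
    hcl.closure_subset_iff.2 (Set.singleton_subset_iff.2 (hl _))
  have hx : IsTop 1 l.last := Snapper.isTop_of (h2.mono hsub) fun h => by
    have := h l fun i => specializes_iff_mem_closure.1 (show l.last ⤳ l i from l.monotone (Fin.le_last i))
    omega
  let I := Scheme.IdealSheafData.vanishingIdeal (⟨closure ({l.last} : Set X), isClosed_closure⟩ : Closeds X)
  letI : I.subscheme.Over (Spec (CommRingCat.of k)) := ⟨I.subschemeι ≫ X ↘ Spec (CommRingCat.of k)⟩
  haveI : IsProper (I.subscheme ↘ Spec (CommRingCat.of k)) :=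
    inferInstanceAs (IsProper (I.subschemeι ≫ X ↘ Spec (CommRingCat.of k)))
  haveI : IsIntegral I.subscheme := Snapper.isIntegral_pt l.last
  haveI := Euler.isNoetherian_of_proper (X := I.subscheme) k
  let F := Scheme.Modules.pullback I.subschemeι
  have hFW : PicF.IsInvertible (F.obj W) := Ample.isInvertible_pullback I.subschemeι hW.1
  have hFO : PicF.IsInvertible (F.obj (Coh.structureModule X)) := Ample.isInvertible_pullback I.subschemeι hOi
  have hs0 : F.map s = 0 := by
    by_contra h0
    have hg : genericPoint I.subscheme ∉ CohB1.support (cokernel (F.map s)) :=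
      QCoh.notMem_support_cokernel_of_surjective _ (Euler.stalkLin_genericPoint_bijective hFW hFO h0).2
    refine hg ?_
    rw [QCoh.support_eq_of_iso (PreservesCokernel.iso F s).symm, QCoh.support_pullback _ _ hQ]
    exact hsub ((Snapper.range_pt l.last).le ⟨_, rfl⟩)
  let e : F.obj Q ≅ Coh.structureModule I.subscheme :=
    PreservesCokernel.iso F s ≪≫ cokernelIsoOfEq hs0 ≪≫ cokernelZeroIsoTarget ≪≫ OX.pullUnitIso I.subschemeι
  let g' : F.obj D ⟶ Coh.structureModule I.subscheme := F.map g ≫ e.hom
  haveI : Epi g' := inferInstance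
  have hFD : HasCls (F.obj D) (pull I.subschemeι d) := hD.pullback _
  have hg0 : g' ≠ 0 := fun h0 => by
    obtain ⟨t, ht⟩ := Ref1.exists_gen_of_isInvertible (Euler.isInvertible_structure (X := I.subscheme)) (genericPoint I.subscheme)
    have hid : (𝟙 (Coh.structureModule I.subscheme)) = 0 := (cancel_epi g').1 (by rw [h0, zero_comp, zero_comp])
    refine ht.ne_zero ?_
    rw [← QCoh.stalkLin_id (Coh.structureModule I.subscheme) (genericPoint I.subscheme) t, hid]
    exact Kodaira.stalkLin_zero_apply _ _ _ _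
  haveI := Euler.mono_of_ne_zero hFD.1 Euler.isInvertible_structure hg0
  haveI := isIso_of_mono_of_epi g'
  have hA : CohB1.IsAmple (F.obj D) := Ample.isAmple_pullback_of_isAffineHom I.subschemeι hDa
  have hI1 : topologicalKrullDim I.subscheme = 1 := by
    refine (IsHomeomorph.topologicalKrullDim_eq _
      I.subschemeι.isClosedEmbedding.isEmbedding.toHomeomorph.isHomeomorph).trans ?_
    rw [Snapper.range_pt]
    exact hx
  have hp := NumReg26.curveDeg_pos_of_ample k hA (𝟙 I.subscheme) hI1
  have h0 := NumReg26.numCls_one k (X := I.subscheme)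
  rw [NumReg26.numCls_iff k (⟨hFD.1, ((Cube.clsMod_eq_iff hFD.1 (Cube.hasCls_structureModule I.subscheme).1).2
    ⟨asIso g'⟩).trans (Cube.hasCls_structureModule I.subscheme).2⟩ : HasCls _ (1 : Pic I.subscheme))] at h0
  rw [h0 I.subscheme (𝟙 _) inferInstance hI1] at hp
  exact lt_irrefl _ hp

/-- The vanishing, on the anticanonical side and its opposite. -/
theorem subsingleton_H1 [IsAlgClosed k] {N : ℕ} (ι : X ⟶ CohB1.ProjSpace N k) [IsClosedImmersion ι]
    (hι : ι ≫ CohB1.ProjSpace.toSpec N k = X ↘ Spec (CommRingCat.of k))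
    [SmoothOfRelativeDimension 2 (X ↘ Spec (CommRingCat.of k))]
    (hdim : topologicalKrullDim X = ((2 : ℕ) : WithBot ℕ∞))
    {W : X.Modules} (hW : ExtPow.IsExtPow 2 (Omega.sheaf (X ↘ Spec (CommRingCat.of k))) W)
    {D : X.Modules} (hD : ClSub.IsInverseOf D W)
    (eD : (Scheme.Modules.pullback ι).obj (Twist.twistProjSpace N k 1) ≅ D)
    (hq : Subsingleton (Coh.HH X (Coh.structureModule X) 1)) (m : ℕ) :
    Subsingleton (Coh.HH X (CohB1.tensorPow D m) 1) ∧ Subsingleton (Coh.HH X (CohB1.tensorPow W m) 1) := by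
  haveI := Euler.isNoetherian_of_proper (X := X) k
  have hWi : PicF.IsInvertible W := SurfRR28.isInvertible_canonical k ι hι W hW
  have hDa : CohB1.IsAmple D := by
    have h := Ample.isAmple_pullback_of_isAffineHom ι (Ample.isAmple_twistProjSpace_one N k)
    obtain ⟨c, ⟨ec⟩⟩ := Ample.exists_cocycle h.1
    exact (c.isAmple_iff (eD.symm ≪≫ ec)).2 ((c.isAmple_iff ec).1 h)
  have hDgg : Curv2.IsGloballyGenerated D :=
    Ample.isGloballyGenerated_of_iso eD (GGDesc10.isGloballyGenerated_pullback ι (tw_one_gg N k))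
  have hO := Cube.hasCls_structureModule X
  set d := clsMod hDa.1 with hd
  have hDc : HasCls D d := hasCls_clsMod hDa.1
  have hmul : d * clsMod hWi = 1 := by
    obtain ⟨e⟩ := hD
    rw [hd, ← Cube.clsMod_tensorMod hDa.1 hWi,
      (Cube.clsMod_eq_iff (Ample.isInvertible_tensorMod hDa.1 hWi) hO.1).2 ⟨e⟩]
    exact hO.2
  have hWd : clsMod hWi = d⁻¹ := eq_inv_of_mul_eq_one_right hmul
  have hWc : HasCls W d⁻¹ := ⟨hWi, hWd⟩
  -- duality
  have hdual : ∀ (L M : X.Modules) (hL : PicF.IsInvertible L) (hM : PicF.IsInvertible M),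
      clsMod hM = d⁻¹ * (clsMod hL)⁻¹ → Subsingleton (Coh.HH X M 1) → Subsingleton (Coh.HH X L 1) :=
    fun L M hL hM h hs => by
    haveI := hs
    haveI := Euler.finiteDimensional_HH k (Euler.isCoh_of_isInvertible hL) 1
    refine Module.finrank_zero_iff.1 ((SurfRR28.hh_serre k ι hι W hW hWi hL hM (by rw [h, hWd]) (p := 1) (by omega)).trans ?_)
    exact Module.finrank_zero_of_subsingleton
  have hW1 : Subsingleton (Coh.HH X W 1) := hdual W _ hWi hO.1 (by rw [hO.2, hWd, mul_inv_cancel]) hq
  -- a section of the anticanonical module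
  obtain ⟨σ, hσ⟩ : ∃ σ : Coh.structureModule X ⟶ D, σ ≠ 0 := by
    by_contra h
    push Not at h
    have hid := hom_eq_zero_of_gg hDgg (𝟙 D) fun σ => by rw [h σ, zero_comp]
    obtain ⟨t, ht⟩ := Ref1.exists_gen_of_isInvertible hDa.1 (genericPoint X)
    refine ht.ne_zero ?_
    rw [← QCoh.stalkLin_id D (genericPoint X) t, hid]
    exact Kodaira.stalkLin_zero_apply _ _ _ _
  obtain ⟨eW⟩ := hD
  let s : W ⟶ Coh.structureModule X := (OX.tensorUnitLeftIso W).inv ≫ (tT W).map σ ≫ eW.hom
  have hs : s ≠ 0 := fun h => hσ (tT_injective hWi σ (by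
    simp only [s] at h
    rw [Iso.inv_comp_eq, comp_zero] at h
    exact (cancel_mono eW.hom).1 (h.trans zero_comp.symm)))
  haveI := Euler.mono_of_ne_zero hWi Euler.isInvertible_structure hs
  let Q := cokernel s
  let S : ShortComplex X.Modules := ShortComplex.mk s (cokernel.π s) (cokernel.condition s)
  have hS : S.ShortExact := by
    haveI : Mono S.f := ‹Mono s›
    exact { exact := ShortComplex.exact_of_g_is_cokernel _ (cokernelIsCokernel s) }
  -- no homomorphism from the anticanonical module to the curve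
  have base : ∀ g : D ⟶ Q, g = 0 := fun g => by
    refine hom_eq_zero_of_gg hDgg g fun σ' => ?_
    obtain ⟨v, hv⟩ := (Cohom.exact₃ (A := k) hS 0 (SerrePn27.homStructureEquiv (k := k) _ (σ' ≫ g))).1
      (@Subsingleton.elim _ hW1 _ _)
    have hv' : (SerrePn27.homStructureEquiv (k := k) _).symm v ≫ cokernel.π s = σ' ≫ g := by
      refine (SerrePn27.homStructureEquiv (k := k) _).injective ?_
      rw [SerrePn27.homStructureEquiv_comp, LinearEquiv.apply_symm_apply]
      exact hv
    rcases eq_or_ne v 0 with h0 | h0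
    · rw [← hv', h0, map_zero, zero_comp]
    exfalso
    have hone := CurveRR.finrank_H0_structure_eq_one k (X := X)
    obtain ⟨c, hc⟩ := exists_smul_eq_of_finrank_eq_one hone h0 (SerrePn27.homStructureEquiv (k := k) _ (𝟙 _))
    haveI : Epi g := ⟨fun {P : X.Modules} f f' hf => by
      have : SerrePn27.homStructureEquiv (k := k) P (cokernel.π s ≫ f) =
          SerrePn27.homStructureEquiv (k := k) P (cokernel.π s ≫ f') := by
        have key : ∀ f : Q ⟶ P, SerrePn27.homStructureEquiv (k := k) P (cokernel.π s ≫ f) =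
            c • SerrePn27.homStructureEquiv (k := k) P (σ' ≫ g ≫ f) := fun f => by
          rw [← Category.id_comp (cokernel.π s ≫ f), SerrePn27.homStructureEquiv_comp, ← hc, map_smul,
            ← Category.assoc σ', ← hv', Category.assoc, SerrePn27.homStructureEquiv_comp, LinearEquiv.apply_symm_apply]
        rw [key, key, hf]
      exact (cancel_epi (cokernel.π s)).1 ((SerrePn27.homStructureEquiv (k := k) P).injective this)⟩
    exact not_epi k hdim hDa hDc hWc s hs g
  -- negative twists of the curve have no sections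
  have hz : ∀ j : ℕ, ∀ g : Coh.structureModule X ⟶ CohB1.tensorMod Q (rep ((d⁻¹) ^ (j + 1))), g = 0 := by
    intro j
    induction j with
    | zero =>
      refine up hDc (w := 1) (by rw [zero_add, pow_one, inv_mul_cancel]) fun f => ?_
      obtain ⟨e⟩ := move (F := Q) hO (v := 1) rfl
      let e' := e.symm ≪≫ GrTilde.tensorModComm Q (Coh.structureModule X) ≪≫ OX.tensorUnitLeftIso Q
      exact (cancel_mono e'.hom).1 ((base _).trans zero_comp.symm)
    | succ j ih =>
      refine up hDc (w := (d⁻¹) ^ (j + 1)) (by rw [pow_succ, inv_mul_cancel_right]) fun f => ?_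
      exact hom_eq_zero_of_gg hDgg f fun σ' => ih _
  have hWj : ∀ j : ℕ, Subsingleton (Coh.HH X (rep ((d⁻¹ : Pic X) ^ j)) 1) := by
    intro j
    induction j with
    | zero =>
      obtain ⟨e⟩ := hO.iso (⟨isInv_rep _, cls_rep _⟩ : HasCls (rep ((d⁻¹ : Pic X) ^ 0)) _) (pow_zero _).symm
      exact CMReg.subsingleton_of_iso e hq
    | succ j ih =>
      have hseq := OX.tensor_map_shortExact (F := rep ((d⁻¹ : Pic X) ^ j))
        (OX.flat_of_isFinLocFree (Euler.isFinLocFree_of_isInvertible (isInv_rep _))) hS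
      obtain ⟨e1⟩ := (hWc.tensor (⟨isInv_rep _, cls_rep _⟩ : HasCls (rep ((d⁻¹ : Pic X) ^ j)) _)).iso
        (⟨isInv_rep _, cls_rep _⟩ : HasCls (rep ((d⁻¹ : Pic X) ^ (j + 1))) _) (pow_succ' _ _).symm
      rcases Nat.eq_zero_or_pos j with rfl | hj
      · obtain ⟨e⟩ := hWc.iso (⟨isInv_rep _, cls_rep _⟩ : HasCls (rep ((d⁻¹ : Pic X) ^ (0 + 1))) _) (by rw [zero_add, pow_one])
        exact CMReg.subsingleton_of_iso e hW1
      refine CMReg.subsingleton_of_iso e1 (CMReg.subsingleton_X₁_succ hseq ?_ ?_)
      · obtain ⟨j, rfl⟩ : ∃ j', j = j' + 1 := ⟨j - 1, by omega⟩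
        exact subsingleton_of_forall_eq 0 fun x => by
          obtain ⟨g, rfl⟩ := (SerrePn27.homStructureEquiv (k := k) _).surjective x
          rw [show g = 0 from hz j g, map_zero]
      · exact CMReg.subsingleton_of_iso (OX.tensorUnitLeftIso _).symm ih
  have hpow : ∀ (L : X.Modules) (hL : PicF.IsInvertible L) (j : ℕ),
      HasCls (CohB1.tensorPow L j) (clsMod hL ^ j) := fun L hL j => (hasCls_clsMod hL).tensorPow j
  refine ⟨hdual _ (rep ((d⁻¹ : Pic X) ^ (m + 1))) (hpow D hDa.1 m).1 (isInv_rep _) ?_ (hWj _), ?_⟩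
  · rw [cls_rep, (hpow D hDa.1 m).2, ← hd, inv_pow, pow_succ', mul_inv]
  · obtain ⟨e⟩ := (hpow W hWi m).iso (⟨isInv_rep _, cls_rep _⟩ : HasCls (rep ((d⁻¹ : Pic X) ^ m)) _) (by rw [hWd])
    exact CMReg.subsingleton_of_iso e.symm (hWj m)

end GrothLib.DelPezzoH112
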